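import Mathlib
import Cfsg.Agent.S4706
import Cfsg.Agent.CharDeep.OrderP.Recog

/-!
# Imprimitive simple groups of degree `3p` with a Sylow normalizer of order `2p`
-/

set_option autoImplicit false

namespace Cfsg.Agent.CG26.TriP

open MulAction Pointwise

universe u v

/-- The imprimitive half of the classification of the simple groups of degree `3p` with Sylow
`p`-normalizer of order `2p`. -/
theorem imprimitive_case {G : Type u} [Group G] [Finite G] [IsSimpleGroup G]
    (hG : ¬ IsMulCommutative G) (p : ℕ) (hp : p.Prime) (hp3 : 3 < p) {Ω : Type v} [Fintype Ω]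
    [MulAction G Ω] [FaithfulSMul G Ω] (htr : IsPretransitive G Ω)
    (hΩ : Fintype.card Ω = 3 * p) (P : Sylow p G)
    (hN : Nat.card ↥(Subgroup.normalizer ((P : Subgroup G) : Set G)) = 2 * p)
    (himp : ¬ IsPreprimitive G Ω) :
    ∃ (F : Type) (_ : Field F) (_ : Fintype F) (m : ℕ), Fintype.card F = 2 ^ m ∧ p = 2 ^ m + 1 ∧
      Nonempty (G ≃* Matrix.ProjectiveSpecialLinearGroup (Fin 2) F) := by
  classical
  have : Fact p.Prime := ⟨hp⟩
  obtain ⟨B, hB, hBt⟩ : ∃ B : Set Ω, IsBlock G B ∧ ¬ IsTrivialBlock B := by
    by_contra h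
    push Not at h
    exact himp { isTrivialBlock_of_isBlock := fun {B} hB => h B hB }
  have hne : B.Nonempty := by
    by_contra h
    exact hBt (Or.inl (by rw [Set.not_nonempty_iff_eq_empty.mp h]; exact Set.subsingleton_empty))
  have hmul := hB.ncard_block_mul_ncard_orbit_eq hne
  rw [Nat.card_eq_fintype_card, hΩ] at hmul
  have hB1 : 1 < B.ncard := by
    by_contra h
    exact hBt (Or.inl ((Set.ncard_le_one_iff_subsingleton (s := B)).mp (by omega)))
  have hB2 : B.ncard ≠ 3 * p := fun h => hBt (Or.inr
    (Set.eq_univ_of_forall fun x => by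
      have : B = Set.univ := Set.eq_of_subset_of_ncard_le (Set.subset_univ _)
        (by rw [Set.ncard_univ, Nat.card_eq_fintype_card, hΩ, h]) (Set.toFinite _)
      rw [this]; trivial))
  -- the action on the translates of the block
  let O := orbit G B
  have hO : O.ncard = 3 ∨ O.ncard = p := by
    have hd : B.ncard ∣ 3 * p := ⟨_, hmul.symm⟩
    obtain ⟨a, b, ha, hb, hab⟩ := (Nat.dvd_mul).mp hd
    rcases (Nat.dvd_prime Nat.prime_three).mp ha with rfl | rfl <;>
      rcases (Nat.dvd_prime hp).mp hb with rfl | rfl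
    · omega
    · left
      simp only [one_mul] at hab
      rw [← hab] at hmul
      exact Nat.eq_of_mul_eq_mul_left hp.pos (by rw [hmul]; ring)
    · right
      simp only [mul_one] at hab
      rw [← hab] at hmul
      exact Nat.eq_of_mul_eq_mul_left (by norm_num : 0 < 3) hmul
    · omega
  let φ : G →* Equiv.Perm O := MulAction.toPermHom G O
  have hinj : Function.Injective φ := by
    rw [← MonoidHom.ker_eq_bot_iff]
    rcases IsSimpleGroup.eq_bot_or_eq_top_of_normal φ.ker inferInstance with h | h
    · exact h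
    · exfalso
      have hfix : ∀ g : G, g • B = B := fun g => by
        have : g ∈ φ.ker := by rw [h]; trivial
        exact congrArg Subtype.val (Equiv.Perm.ext_iff.mp this ⟨B, mem_orbit_self B⟩)
      have : O.ncard ≤ 1 := by
        refine le_trans (Set.ncard_le_ncard (t := {B}) ?_ (Set.toFinite _)) (Set.ncard_singleton B).le
        rintro C ⟨g, rfl⟩
        exact hfix g
      rcases hO with h | h <;> omega
  have hpG : p ∣ Nat.card G :=
    (hN ▸ dvd_mul_left p 2).trans
      (Subgroup.card_subgroup_dvd_card (Subgroup.normalizer ((P : Subgroup G) : Set G)))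
  rcases hO with h3 | hpO
  · exfalso
    have h := hpG.trans (Subgroup.card_dvd_of_injective φ hinj)
    rw [Nat.card_perm, Nat.card_coe_set_eq, h3] at h
    have := (hp.dvd_factorial).mp h
    omega
  have hcardO : Fintype.card O = p := by
    rw [← Nat.card_eq_fintype_card, Nat.card_coe_set_eq, hpO]
  let e : G ≃* φ.range := MonoidHom.ofInjective hinj
  let P' : Sylow p φ.range := Sylow.ofCard ((P : Subgroup G).map e.toMonoidHom) (by
    rw [Subgroup.card_map_of_injective (f := e.toMonoidHom) e.injective, P.card_eq_multiplicity,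
      Nat.card_congr e.toEquiv])
  have hN' : Nat.card (Subgroup.normalizer ((P' : Subgroup φ.range) : Set φ.range)) = 2 * p := by
    rw [show (P' : Subgroup φ.range) = (P : Subgroup G).map e.toMonoidHom from
        Sylow.coe_ofCard _ _, ← Subgroup.map_equiv_normalizer_eq,
      Subgroup.card_map_of_injective (f := e.toMonoidHom) e.injective, hN]
  rcases S4706.result (by omega) hcardO φ.range P' hN' with hnorm | ⟨a, F, i1, i2, ha, hF, ⟨f⟩⟩
  · exfalso
    have hPn : (P : Subgroup G).Normal := by
      rw [← Subgroup.normalizer_eq_top_iff]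
      refine Subgroup.eq_top_of_card_eq _ ?_
      have htop' : Subgroup.normalizer ((P' : Subgroup φ.range) : Set φ.range) = ⊤ :=
        Subgroup.normalizer_eq_top_iff.mpr hnorm
      rw [hN, ← hN', htop', Subgroup.card_top, Nat.card_congr e.toEquiv]
    rcases IsSimpleGroup.eq_bot_or_eq_top_of_normal _ hPn with hbot | htop
    · have := P.dvd_card_of_dvd_card hpG
      rw [hbot, Subgroup.card_bot] at this
      exact hp.not_dvd_one this
    · have hle : (P : Subgroup G) ≤ Subgroup.normalizer ((P : Subgroup G) : Set G) :=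
        Subgroup.le_normalizer
      have h2p : Nat.card G = 2 * p := by
        have hN1 : Subgroup.normalizer ((P : Subgroup G) : Set G) = ⊤ :=
          top_le_iff.mp (htop.ge.trans hle)
        rw [← hN, hN1, Subgroup.card_top]
      have hpp := P.2.exists_card_eq
      rw [htop, Subgroup.card_top, h2p] at hpp
      obtain ⟨k, hk⟩ := hpp
      have h2 : 2 ∣ p ^ k := ⟨p, hk.symm⟩
      have := (Nat.prime_dvd_prime_iff_eq Nat.prime_two hp).mp (Nat.prime_two.dvd_of_dvd_pow h2)
      omega
  · obtain ⟨g⟩ := CharDeep.OrderP.nonempty_psl_equiv_sl hF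
    exact ⟨F, i1, i2, a, hF, ha, ⟨(e.trans f).trans g.symm⟩⟩

end Cfsg.Agent.CG26.TriP
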